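import Groth.Agent.Lib.SpecSeq.DerivedObj

/-!
# Vanishing of derived functors on complexes with acyclic cohomology, bounded case

`Van T P N`: the derived functors `R^n T` vanish on objects satisfying `P` for `n ≥ N`.
-/

set_option autoImplicit false
set_option linter.unusedSectionVars false
set_option linter.style.haveILetI false

universe w v u v' u'

open CategoryTheory Limits Pretriangulated DerivedCategory

namespace Groth.Agent.Lib.WayOut.Bounded

open Groth.Agent.Lib.SpecSeq.RightHom Groth.Agent.Lib.SpecSeq.AcyclicComplex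
open Groth.Agent.Lib.DerCat.TStruct

variable {B : Type u} [Category.{v} B] [Abelian B] [HasDerivedCategory.{w} B]
  [(DerivedCategory.Qh (C := B)).IsLeftAdjoint]
  {C : Type u'} [Category.{v'} C] [Abelian C] (T : B ⥤ C) [T.Additive]

/-- `R^n T` vanishes on `P`-objects for `n ≥ N`. -/
def Van (P : ObjectProperty B) (N : ℤ) : Prop := ∀ M, P M → ∀ n, N ≤ n → IsZero (RS T n M)

variable {T} {P : ObjectProperty B} [P.IsClosedUnderIsomorphisms]

/-- The cohomology of an object of `D(B)` has property `P`. -/
def HasP (P : ObjectProperty B) (Y : DerivedCategory B) : Prop :=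
  ∀ i : ℤ, P ((homologyFunctor B i).obj Y)

variable {N : ℤ}

theorem isZero_RH_of_isGE_of_isLE (hT : Van T P N) (Y : DerivedCategory B) (q : ℤ) [Y.IsGE q]
    [Y.IsLE q] (hY : P ((homologyFunctor B q).obj Y)) (n : ℤ) (hn : q + N ≤ n) :
    IsZero ((RH T n).obj Y) := by
  obtain ⟨M, ⟨e⟩⟩ := exists_iso_singleFunctor_obj_of_isGE_of_isLE Y q
  have hM : P M := P.prop_of_iso
    ((homologyFunctor B q).mapIso e ≪≫ (singleFunctorCompHomologyFunctorIso B q).app M) hY
  refine (hT M hM (n - q) (by lia)).of_iso ?_
  exact (RH T n).mapIso (e ≪≫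
      (((DerivedCategory.singleFunctors B).shiftIso (-q) q 0 (by lia)).app M).symm) ≪≫
    ((RH0 T).shiftIso (-q) n (n - q) (by lia)).app _

/-- Truncation below does not change the higher cohomology. -/
theorem isIso_homologyMap_truncGEπ (Y : DerivedCategory B) (a i : ℤ) (hi : a ≤ i) :
    IsIso ((homologyFunctor B i).map ((TStructure.t.truncGEπ a).app Y)) :=
  @isIso_homologyMap_mor₂ _ _ _ _ _ (TStructure.t.triangleLTGE_distinguished a Y) (a - 1)
    (inferInstance : TStructure.t.IsLE ((TStructure.t.truncLT a).obj Y) (a - 1)) i (by lia)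

theorem isIso_homologyMap_truncLTι (Y : DerivedCategory B) (a i : ℤ) (hi : i < a) :
    IsIso ((homologyFunctor B i).map ((TStructure.t.truncLTι a).app Y)) :=
  @isIso_homologyMap_mor₁ _ _ _ _ _ (TStructure.t.triangleLTGE_distinguished a Y) a
    (inferInstance : TStructure.t.IsGE ((TStructure.t.truncGE a).obj Y) a) i hi

theorem P_of_isZero [P.ContainsZero] {M : B} (h : IsZero M) : P M := by
  obtain ⟨Z, hZ, hPZ⟩ := P.exists_prop_of_containsZero
  exact P.prop_of_iso (hZ.iso h) hPZ

variable [P.ContainsZero]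

theorem hasP_truncGE {Y : DerivedCategory B} (h : HasP P Y) (a : ℤ) :
    HasP P ((TStructure.t.truncGE a).obj Y) := fun i => by
  by_cases hi : a ≤ i
  · haveI := isIso_homologyMap_truncGEπ Y a i hi
    exact P.prop_of_iso (asIso ((homologyFunctor B i).map ((TStructure.t.truncGEπ a).app Y))) (h i)
  · exact P_of_isZero (@isZero_of_isGE _ _ _ _ _ a i (by lia)
      (inferInstance : TStructure.t.IsGE ((TStructure.t.truncGE a).obj Y) a))

theorem hasP_truncLT {Y : DerivedCategory B} (h : HasP P Y) (a : ℤ) :
    HasP P ((TStructure.t.truncLT a).obj Y) := fun i => by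
  by_cases hi : i < a
  · haveI := isIso_homologyMap_truncLTι Y a i hi
    exact P.prop_of_iso (asIso ((homologyFunctor B i).map ((TStructure.t.truncLTι a).app Y))).symm (h i)
  · exact P_of_isZero (@isZero_of_isLE _ _ _ _ _ (a - 1) i (by lia)
      (inferInstance : TStructure.t.IsLE ((TStructure.t.truncLT a).obj Y) (a - 1)))

theorem isLE_truncGE (Y : DerivedCategory B) (a b : ℤ) [Y.IsLE b] :
    ((TStructure.t.truncGE a).obj Y).IsLE b := by
  rw [isLE_iff]
  intro i hi
  by_cases hi' : a ≤ i
  · haveI := isIso_homologyMap_truncGEπ Y a i hi'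
    exact (isZero_of_isLE Y b i hi).of_iso
      (asIso ((homologyFunctor B i).map ((TStructure.t.truncGEπ a).app Y))).symm
  · exact @isZero_of_isGE _ _ _ _ _ a i (by lia)
      (inferInstance : TStructure.t.IsGE ((TStructure.t.truncGE a).obj Y) a)

theorem isGE_truncLT (Y : DerivedCategory B) (a b : ℤ) [Y.IsGE b] :
    ((TStructure.t.truncLT a).obj Y).IsGE b := by
  rw [isGE_iff]
  intro i hi
  by_cases hi' : i < a
  · haveI := isIso_homologyMap_truncLTι Y a i hi'
    exact (isZero_of_isGE Y b i hi).of_iso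
      (asIso ((homologyFunctor B i).map ((TStructure.t.truncLTι a).app Y)))
  · exact @isZero_of_isLE _ _ _ _ _ (a - 1) i (by lia)
      (inferInstance : TStructure.t.IsLE ((TStructure.t.truncLT a).obj Y) (a - 1))

theorem isZero_of_isGE_of_isLE_lt (Y : DerivedCategory B) (a b : ℤ) (hab : b < a) [Y.IsGE a]
    [Y.IsLE b] : IsZero Y :=
  TStructure.t.isZero Y b a hab

/-- Bounded objects with `P` cohomology: vanishing. -/
theorem isZero_RH_of_bounded (hT : Van T P N) (Y : DerivedCategory B) (hY : HasP P Y) (a b : ℤ)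
    [Y.IsGE a] [Y.IsLE b] (n : ℤ) (hn : b + N ≤ n) : IsZero ((RH T n).obj Y) := by
  obtain ⟨k, hk⟩ : ∃ k : ℕ, k = (b - a + 1).toNat := ⟨_, rfl⟩
  induction k generalizing Y b with
  | zero => exact Functor.map_isZero _ (isZero_of_isGE_of_isLE_lt Y a b (by lia))
  | succ k ih =>
    haveI := isGE_truncLT Y b a
    haveI : ((TStructure.t.truncLT b).obj Y).IsLE (b - 1) :=
      (inferInstance : TStructure.t.IsLE ((TStructure.t.truncLT b).obj Y) (b - 1))
    haveI := isLE_truncGE Y b b
    haveI : ((TStructure.t.truncGE b).obj Y).IsGE b :=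
      (inferInstance : TStructure.t.IsGE ((TStructure.t.truncGE b).obj Y) b)
    have h1 := ih ((TStructure.t.truncLT b).obj Y) (hasP_truncLT hY b) (b - 1) (by lia) (by lia)
    have h2 := isZero_RH_of_isGE_of_isLE hT ((TStructure.t.truncGE b).obj Y) b
      (hasP_truncGE hY b b) n hn
    exact ((RH0 T).homologySequence_exact₂ _ (TStructure.t.triangleLTGE_distinguished b Y) n).isZero_X₂
      (h1.eq_of_src _ _) (h2.eq_of_tgt _ _)

variable [EnoughInjectives B] [PreservesFiniteLimits T]

/-- A morphism of bounded below objects which is an isomorphism on cohomology above `q` induces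
isomorphisms of derived functors in high degrees. -/
theorem isIso_RH_map (hT : Van T P N) {X Y : DerivedCategory B} (f : X ⟶ Y) (a q : ℤ)
    [X.IsGE a] [Y.IsGE a] (hX : HasP P X)
    (hf : ∀ i, q < i → IsIso ((homologyFunctor B i).map f))
    (hq : Y.IsGE (q + 1)) (n : ℤ) (hn : q + N + 1 ≤ n) :
    IsIso ((RH T n).map f) := by
  obtain ⟨Z, g, h, hT'⟩ := distinguished_cocone_triangle₁ f
  have hZ0 : ∀ i, q < i → IsZero ((homologyFunctor B i).obj Z) := fun i hi => by
    refine (HomologySequence.exact₁ _ hT' (i - 1) i (by lia)).isZero_X₂ ?_ ?_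
    · by_cases hi' : q < i - 1
      · haveI := hf (i - 1) hi'
        have h0 := HomologySequence.comp_δ _ hT' (i - 1) i (by lia)
        exact (cancel_epi ((homologyFunctor B (i - 1)).map f)).1 (h0.trans comp_zero.symm)
      · exact (isZero_of_isGE Y (q + 1) (i - 1) (by lia)).eq_of_src _ _
    · haveI := hf i hi
      have h0 : (homologyFunctor B i).map g ≫ (homologyFunctor B i).map f = 0 := by
        rw [← Functor.map_comp]
        exact (congrArg _ (comp_distTriang_mor_zero₁₂ _ hT')).trans (Functor.map_zero _ _ _)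
      exact (cancel_mono ((homologyFunctor B i).map f)).1 (h0.trans zero_comp.symm)
  haveI hle : Z.IsLE q := by
    rw [isLE_iff]
    exact fun i hi => hZ0 i hi
  haveI hge : Z.IsGE a := by
    rw [isGE_iff]
    intro i hi
    refine (HomologySequence.exact₁ _ hT' (i - 1) i (by lia)).isZero_X₂ ?_ ?_
    · exact (isZero_of_isGE Y a (i - 1) (by lia)).eq_of_src _ _
    · exact (isZero_of_isGE X a i hi).eq_of_tgt _ _
  have hZP : HasP P Z := fun i => by
    by_cases hi : q < i
    · exact P_of_isZero (hZ0 i hi)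
    · haveI : Mono ((homologyFunctor B i).map g) :=
        (HomologySequence.mono_homologyMap_mor₁_iff _ hT' (i - 1) i (by lia)).2
          ((isZero_of_isGE Y (q + 1) (i - 1) (by lia)).eq_of_src _ _)
      haveI : Epi ((homologyFunctor B i).map g) :=
        (HomologySequence.epi_homologyMap_mor₁_iff _ hT' i).2
          ((isZero_of_isGE Y (q + 1) i (by lia)).eq_of_tgt _ _)
      haveI := isIso_of_mono_of_epi ((homologyFunctor B i).map g)
      exact P.prop_of_iso (asIso ((homologyFunctor B i).map g)).symm (hX i)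
  have h1 := isZero_RH_of_bounded hT Z hZP a q n (by lia)
  have h2 := isZero_RH_of_bounded hT Z hZP a q (n + 1) (by lia)
  haveI : Mono ((RH T n).map f) :=
    ((RH0 T).homologySequence_exact₂ _ hT' n).mono_g (h1.eq_of_src _ _)
  haveI : Epi ((RH T n).map f) :=
    ((RH0 T).homologySequence_exact₃ _ hT' n (n + 1) rfl).epi_f (h2.eq_of_tgt _ _)
  exact isIso_of_mono_of_epi _

end Groth.Agent.Lib.WayOut.Bounded
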