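import Groth.Agent.Lib.WayOut.AcyclicCx
import Groth.Agent.Lib.ZarCoh.Bounded
import Groth.Agent.Lib.QCoh.Closure
import Groth.Agent.Lib.CohDelta.Basic
import Groth.Agent.Lib.CohDelta.Flasque
import Groth.Agent.Lib.Modules.Stalk
import Groth.Agent.Lib.DerivedOX.Exists

/-!
# Way-out vanishing for `O_X`-modules

The detecting family is given by sections over affine opens.
-/

set_option autoImplicit false
set_option linter.unusedSectionVars false
set_option linter.style.haveILetI false

universe w u

open CategoryTheory Limits AlgebraicGeometry TopologicalSpace Opposite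
open CategoryTheory.Abelian

namespace Groth.Agent.Lib.WayOut.Scheme

open Groth.Agent.Lib.SpecSeq.RightHom Groth.Agent.Lib.SpecSeq.AcyclicComplex
open Groth.Agent.Lib.WayOut.Bounded Groth.Agent.Lib.WayOut.Holim

variable {X : Scheme.{u}}

/-- Sections over an open, as abelian groups. -/
noncomputable abbrev sect (W : X.Opens) : X.Modules ⥤ AddCommGrpCat.{u} :=
  SheafOfModules.evaluation X.ringCatSheaf (op W) ⋙ forget₂ _ AddCommGrpCat.{u}

instance sect_additive (W : X.Opens) : (sect W).Additive where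
  map_add := by
    intros
    rfl

instance sect_preservesLimits {D : Type} [SmallCategory D] (W : X.Opens) :
    PreservesLimitsOfShape D (sect W) :=
  @comp_preservesLimitsOfShape _ _ _ _ _ _ _ _ (SheafOfModules.evaluation X.ringCatSheaf (op W))
    (forget₂ _ AddCommGrpCat.{u})
    (SheafOfModules.evaluationPreservesLimitsOfShape.{u} D X.ringCatSheaf (op W)) inferInstance

instance sect_preservesFiniteLimits (W : X.Opens) : PreservesFiniteLimits (sect W) where
  preservesFiniteLimits _ _ _ := inferInstance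

/-- The property of being quasi-coherent. -/
abbrev qc (X : Scheme.{u}) : ObjectProperty X.Modules := SheafOfModules.isQuasicoherent X.ringCatSheaf

instance qc_isClosedUnderIsomorphisms : (qc X).IsClosedUnderIsomorphisms :=
  inferInstanceAs (SheafOfModules.isQuasicoherent X.ringCatSheaf).IsClosedUnderIsomorphisms

theorem qc_iff {M : X.Modules} : qc X M ↔ M.IsQuasicoherent := Iff.rfl

variable [HasDerivedCategory.{w} X.Modules]

/-- The sequence `0 → M → injective → Q → 0`. -/
noncomputable abbrev injSeq (M : X.Modules) : ShortComplex X.Modules :=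
  ShortComplex.mk (Injective.ι M) (cokernel.π _) (cokernel.condition _)

theorem injSeq_shortExact (M : X.Modules) : (injSeq M).ShortExact :=
  { exact := ShortComplex.exact_cokernel (Injective.ι M)
    mono_f := inferInstanceAs (Mono (Injective.ι M))
    epi_g := inferInstanceAs (Epi (cokernel.π (Injective.ι M))) }

theorem subsingleton_HU_injSeq (W : X.Opens) (M : X.Modules) (q : ℕ)
    (h : Subsingleton (CohTop.HU (Coh.toAb M) (q + 1 + 1) W)) :
    Subsingleton (CohTop.HU (Coh.toAb (injSeq M).X₃) (q + 1) W) := by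
  have hA := CohDelta.Basic.abS_shortExact (injSeq_shortExact M)
  haveI : Subsingleton (Ext.{u} (ZarCoh.Basic.Zs.obj (W : Opens X))
      (CohDelta.Basic.abS (injSeq M)).X₁ (q + 1 + 1)) := h
  refine subsingleton_of_forall_eq 0 fun ξ => ?_
  obtain ⟨x, hx⟩ := Ext.covariant_sequence_exact₃ (ZarCoh.Basic.Zs.obj (W : Opens X)) hA ξ rfl
    (Subsingleton.elim _ _)
  haveI : Subsingleton (Ext.{u} (ZarCoh.Basic.Zs.obj (W : Opens X))
      (CohDelta.Basic.abS (injSeq M)).X₂ (q + 1)) :=
    CohDelta.Flasque.subsingleton_HU (Injective.under M) W q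
  rw [← hx, Subsingleton.elim x 0, Ext.zero_comp]
  rfl

theorem isZero_RS_one (W : X.Opens) (M : X.Modules) (h : Subsingleton (CohTop.HU (Coh.toAb M) 1 W)) :
    IsZero (RS (sect W) 1 M) := by
  let S := injSeq M
  have hS : S.ShortExact := injSeq_shortExact M
  haveI : Injective S.X₂ := inferInstanceAs (Injective (Injective.under M))
  have hA := CohDelta.Basic.abS_shortExact hS
  have hI : ∀ k : ℤ, 0 < k → IsZero (RS (sect W) k S.X₂) := acyc_injective (sect W) S.X₂
  have hex := (RH0 (sect W)).homologySequence_exact₁ _ hS.singleTriangle_distinguished (1 - 1) 1 (by lia)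
  have hsurj : Function.Surjective ((sect W).map S.g) := fun q => by
    haveI : Subsingleton (Ext.{u} (ZarCoh.Basic.Zs.obj (W : Opens X)) (CohDelta.Basic.abS S).X₁ 1) :=
      h
    obtain ⟨x, hx⟩ := Ext.covariant_sequence_exact₃ (ZarCoh.Basic.Zs.obj (W : Opens X)) hA
      (Ext.mk₀ ((ZarCoh.Basic.homEquiv W (CohDelta.Basic.abS S).X₃).symm q)) (zero_add 1) (Subsingleton.elim _ _)
    obtain ⟨x, rfl⟩ := (Ext.mk₀_bijective _ _).2 x
    rw [Ext.mk₀_comp_mk₀] at hx
    refine ⟨ZarCoh.Basic.homEquiv W (CohDelta.Basic.abS S).X₂ x, ?_⟩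
    have h2 := congrArg (ZarCoh.Basic.homEquiv W (CohDelta.Basic.abS S).X₃) ((Ext.mk₀_bijective _ _).1 hx)
    rw [ZarCoh.Basic.homEquiv_comp, Equiv.apply_symm_apply] at h2
    exact h2
  haveI : Epi ((sect W).map S.g) := (AddCommGrpCat.epi_iff_surjective _).2 hsurj
  let Φ := (sect W).mapHomologicalComplex (.up ℤ) ⋙
    HomologicalComplex.homologyFunctor AddCommGrpCat.{u} (.up ℤ) 0
  let G : sect W ≅ (CochainComplex.singleFunctor X.Modules 0) ⋙ Φ :=
    (sect W).rightUnitor.symm ≪≫
      Functor.isoWhiskerLeft (sect W) (HomologicalComplex.homologyFunctorSingleIso _ (.up ℤ) 0).symm ≪≫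
      (Functor.associator _ _ _).symm ≪≫
      Functor.isoWhiskerRight (HomologicalComplex.singleMapHomologicalComplex (sect W) (.up ℤ) 0).symm _ ≪≫
      Functor.associator _ _ _
  have hΦ : Epi (Φ.map ((CochainComplex.singleFunctor X.Modules 0).map S.g)) := by
    rw [show Φ.map ((CochainComplex.singleFunctor X.Modules 0).map S.g) =
      G.inv.app S.X₂ ≫ (sect W).map S.g ≫ G.hom.app S.X₃ from (NatIso.naturality_1 G S.g).symm]
    infer_instance
  haveI := isIso_cmp_single (sect W) S.X₂
  haveI := isIso_cmp_single (sect W) S.X₃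
  have e := (cmp (sect W) 0).naturality ((CochainComplex.singleFunctor X.Modules 0).map S.g)
  have hR : Epi ((DerivedCategory.Q ⋙ RH (sect W) 0).map
      ((CochainComplex.singleFunctor X.Modules 0).map S.g)) := by
    rw [(IsIso.eq_inv_comp _).2 e.symm]
    haveI := hΦ
    exact epi_comp' inferInstance (epi_comp' hΦ inferInstance)
  have h0 : (RH0 (sect W)).homologySequenceδ hS.singleTriangle (1 - 1) 1 (by lia) = 0 := by
    have hz := (RH0 (sect W)).comp_homologySequenceδ _ hS.singleTriangle_distinguished 0 1 (by lia)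
    exact (@cancel_epi _ _ _ _ _ _ hR _ _).1 (hz.trans comp_zero.symm)
  exact hex.isZero_X₂ h0 ((hI 1 one_pos).eq_of_tgt _ _)

theorem isZero_RS_sect (W : X.Opens) (N : ℕ) (M : X.Modules)
    (h : ∀ p, N + 1 ≤ p → Subsingleton (CohTop.HU (Coh.toAb M) p W)) (n : ℤ) (hn : (N : ℤ) + 1 ≤ n) :
    IsZero (RS (sect W) n M) := by
  obtain ⟨k, rfl⟩ : ∃ k : ℕ, n = k + 1 := ⟨(n - 1).toNat, by lia⟩
  induction k generalizing M N with
  | zero =>
    obtain rfl : N = 0 := by lia
    simpa using isZero_RS_one W M (h 1 le_rfl)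
  | succ k ih =>
    have hS := injSeq_shortExact M
    haveI : Injective (injSeq M).X₂ := inferInstanceAs (Injective (Injective.under M))
    refine ((RH0 (sect W)).homologySequence_exact₁ _ hS.singleTriangle_distinguished
      ((k : ℤ) + 1) _ (by lia)).isZero_X₂ (IsZero.eq_of_src ?_ _ _)
      ((acyc_injective (sect W) (injSeq M).X₂ _ (by lia)).eq_of_tgt _ _)
    exact ih (N - 1) (injSeq M).X₃ (fun p hp => by
      obtain ⟨q, rfl⟩ : ∃ q, p = q + 1 := ⟨p - 1, by lia⟩
      exact subsingleton_HU_injSeq W M q (h _ (by lia))) (by lia)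

instance qc_containsZero : (qc X).ContainsZero := by
  obtain ⟨Z, hZ⟩ := (inferInstance : HasZeroObject X.Modules).zero
  refine ⟨⟨Z, hZ, ?_⟩⟩
  exact QCoh.Closure.isQCoh_of_isColimit (J := Discrete PEmpty.{1}) (F := Functor.empty X.Modules)
    (c := asEmptyCocone Z) hZ.isInitial fun j => j.as.elim

/-- Exactness on affine sections implies exactness. -/
theorem exact_of_sect (S : ShortComplex X.Modules)
    (h : ∀ W : X.affineOpens, (S.map (sect W.1)).Exact) : S.Exact := by
  rw [Modules.Stalk.exact_iff_stalk]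
  intro x
  rw [ShortComplex.ab_exact_iff]
  intro z hz
  obtain ⟨U, hxU, s, rfl⟩ := TopCat.Presheaf.exists_germ_eq S.X₂.presheaf z
  replace hz : S.X₃.presheaf.germ U x hxU (S.g.app U s) = 0 :=
    (Modules.Stalk.stalkFunctor_map_germ x S.g hxU s).symm.trans hz
  obtain ⟨V, hxV, i, i', hV⟩ := TopCat.Presheaf.germ_eq S.X₃.presheaf x hxU hxU (S.g.app U s) 0
    (hz.trans (map_zero _).symm)
  obtain ⟨_, ⟨W, hW, rfl⟩, hxW, hWV⟩ :=
    X.isBasis_affineOpens.exists_subset_of_mem_open hxV V.2
  let j : W ⟶ U := homOfLE (le_trans (SetLike.coe_subset_coe.1 hWV) i.le)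
  have hs : S.g.app W (S.X₂.presheaf.map j.op s) = 0 := by
    have h1 : S.g.app W (S.X₂.presheaf.map j.op s) = S.X₃.presheaf.map j.op (S.g.app U s) :=
      ConcreteCategory.congr_hom (S.g.mapPresheaf.naturality j.op) s
    rw [h1, show j = homOfLE (SetLike.coe_subset_coe.1 hWV) ≫ i from Subsingleton.elim _ _, op_comp,
      Functor.map_comp, ConcreteCategory.comp_apply, hV, map_zero, map_zero]
  obtain ⟨t, ht⟩ := (ShortComplex.ab_exact_iff _).1 (h ⟨W, hW⟩) (S.X₂.presheaf.map j.op s) hs
  refine ⟨S.X₁.presheaf.germ W x hxW t, ?_⟩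
  refine (Modules.Stalk.stalkFunctor_map_germ x S.f hxW t).trans ?_
  rw [show S.f.app W t = S.X₂.presheaf.map j.op s from ht]
  exact TopCat.Presheaf.germ_res_apply S.X₂.presheaf j x hxW s

theorem van_sect_affine {W : X.Opens} (hW : IsAffineOpen W) : Van (sect W) (qc X) 1 := fun M hM n hn => by
  haveI : M.IsQuasicoherent := hM
  refine isZero_RS_sect W 0 M (fun p hp => ?_) n (by simpa using hn)
  obtain ⟨q, rfl⟩ : ∃ q, p = q + 1 := ⟨p - 1, by lia⟩
  exact ZarCoh.Affine.HU_subsingleton M hW q

/-- Affine sections detect cohomology of complexes. -/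
noncomputable def detects (X : Scheme.{u}) [HasDerivedCategory.{w} X.Modules] :
    Detects.{w, u, u + 1, u, u} (qc X) where
  ι := X.affineOpens
  Φ W := sect W.1
  additive _ := inferInstance
  preservesFiniteLimits _ := inferInstance
  preservesProducts _ := inferInstance
  van W := van_sect_affine W.2
  detect := exact_of_sect

/-- Quasi-coherent complexes have quasi-coherent homology. -/
theorem qc_homology (L : CochainComplex X.Modules ℤ) (hL : ∀ j, qc X (L.X j)) (i : ℤ) :
    qc X (L.homology i) := by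
  haveI : ∀ j, SheafOfModules.IsQuasicoherent (R := X.ringCatSheaf) (L.X j) := hL
  haveI h1 : (L.cycles i).IsQuasicoherent :=
    (qc X).prop_of_iso ((L.cyclesIsKernel i _ rfl).conePointUniqueUpToIso (kernelIsKernel _)).symm
      (QCoh.Closure.isQCoh_kernel (L.d i ((ComplexShape.up ℤ).next i)))
  exact (qc X).prop_of_iso
    ((L.homologyIsCokernel _ i rfl).coconePointUniqueUpToIso (cokernelIsCokernel _)).symm
    (QCoh.Closure.isQCoh_cokernel (L.toCycles ((ComplexShape.up ℤ).prev i) i))

/-- Sections over a quasi-compact open of a quasi-separated scheme have finite cohomological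
dimension on quasi-coherent modules. -/
theorem exists_van_sect [QuasiSeparatedSpace X] {W : X.Opens} (hW : IsCompact (W : Set X)) :
    ∃ N : ℕ, Van (sect W) (qc X) (N + 1) := by
  obtain ⟨d, -, hd⟩ := ZarCoh.Bounded.exists_bound (⊤ : X.Opens)
    (isQuasiSeparated_univ : IsQuasiSeparated (Set.univ : Set X)) {⊤}
    (fun U _ hU G hG ↦ by rw [Set.mem_singleton_iff.1 hG, inf_top_eq]; exact hU) W le_top hW
  refine ⟨d, fun M hM n hn => isZero_RS_sect W d M (fun p hp => ?_) n hn⟩
  have := hd M hM ⊤ rfl p (by lia)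
  rwa [inf_top_eq] at this

end Groth.Agent.Lib.WayOut.Scheme
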