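import Groth.Agent.Lib.WayOut.Product

/-!
# Unbounded derived functors via truncations

Let `P` be a property of objects such that a jointly conservative family of product preserving left
exact functors `Φ i` is acyclic on `P`-objects.  If `T` has cohomological dimension `< N` on
`P`-objects, then `R^n T` of an object of `D(B)` with `P`-cohomology depends only on its truncation
above `N - n`.
-/

set_option autoImplicit false
set_option linter.unusedSectionVars false
set_option linter.style.haveILetI false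

universe w v u u' t

open CategoryTheory Limits Pretriangulated DerivedCategory

namespace Groth.Agent.Lib.WayOut.Holim

open Groth.Agent.Lib.SpecSeq.RightHom Groth.Agent.Lib.SpecSeq.AcyclicComplex
open Groth.Agent.Lib.DerivedOX.RightDerived Groth.Agent.Lib.DerCat Bounded

variable {B : Type u} [Category.{v} B] [Abelian B] [HasDerivedCategory.{w} B]
  [(DerivedCategory.Qh (C := B)).IsLeftAdjoint]

/-- The data of a jointly conservative family of functors acyclic on `P`. -/
structure Detects (P : ObjectProperty B) where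
  ι : Type t
  Φ : ι → B ⥤ AddCommGrpCat.{u'}
  additive : ∀ i, (Φ i).Additive
  preservesFiniteLimits : ∀ i, PreservesFiniteLimits (Φ i)
  preservesProducts : ∀ i, PreservesLimitsOfShape (Discrete ℕ) (Φ i)
  van : ∀ i, haveI := additive i; Van (Φ i) P 1
  detect : ∀ S : ShortComplex B,
    (∀ i, haveI := additive i; (S.map (Φ i)).Exact) → S.Exact

attribute [instance] Detects.additive Detects.preservesFiniteLimits Detects.preservesProducts

variable {P : ObjectProperty B} [P.IsClosedUnderIsomorphisms] [P.ContainsZero]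

/-- The `m`-th truncation. -/
noncomputable abbrev tau (Y : DerivedCategory B) (m : ℕ) : DerivedCategory B :=
  (TStructure.t.truncGE (-(m : ℤ))).obj Y

/-- The projection to the `m`-th truncation. -/
noncomputable abbrev proj (Y : DerivedCategory B) (m : ℕ) : Y ⟶ tau Y m :=
  (TStructure.t.truncGEπ (-(m : ℤ))).app Y

/-- The transition maps. -/
noncomputable abbrev trans (Y : DerivedCategory B) (m : ℕ) : tau Y (m + 1) ⟶ tau Y m :=
  (TStructure.t.natTransTruncGEOfLE (-((m + 1 : ℕ) : ℤ)) (-(m : ℤ))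
    (Int.neg_le_neg (Int.ofNat_le.mpr (Nat.le_succ m)))).app Y

theorem proj_trans (Y : DerivedCategory B) (m : ℕ) : proj Y (m + 1) ≫ trans Y m = proj Y m :=
  TStructure.t.π_natTransTruncGEOfLE_app _ _ _ Y

variable [EnoughInjectives B]

section

variable {C : Type*} [Category C] [Abelian C] (T : B ⥤ C) [T.Additive] [PreservesFiniteLimits T]

theorem isIso_RH_trans {N : ℤ} (hT : Van T P N) {Y : DerivedCategory B} (hY : HasP P Y) (m : ℕ)
    (n : ℤ) (hn : N - m ≤ n) : IsIso ((RH T n).map (trans Y m)) := by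
  haveI : (tau Y (m + 1)).IsGE (-((m + 1 : ℕ) : ℤ)) :=
    (inferInstance : TStructure.t.IsGE (tau Y (m + 1)) (-((m + 1 : ℕ) : ℤ)))
  haveI hge : (tau Y m).IsGE (-(m : ℤ)) :=
    (inferInstance : TStructure.t.IsGE (tau Y m) (-(m : ℤ)))
  haveI : (tau Y m).IsGE (-((m + 1 : ℕ) : ℤ)) :=
    TStructure.t.isGE_of_ge (tau Y m) (-((m + 1 : ℕ) : ℤ)) (-(m : ℤ)) (by lia)
  refine isIso_RH_map hT (trans Y m) (-((m + 1 : ℕ) : ℤ)) (-((m + 1 : ℕ) : ℤ))
    (hasP_truncGE hY _) (fun i hi => ?_) ?_ n (by lia)
  · haveI := isIso_homologyMap_truncGEπ Y (-((m + 1 : ℕ) : ℤ)) i hi.le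
    haveI := isIso_homologyMap_truncGEπ Y (-(m : ℤ)) i (by lia)
    haveI : IsIso ((homologyFunctor B i).map (proj Y (m + 1)) ≫ (homologyFunctor B i).map (trans Y m)) := by
      rw [← Functor.map_comp, proj_trans]
      infer_instance
    exact IsIso.of_isIso_comp_left ((homologyFunctor B i).map (proj Y (m + 1))) _
  · rw [show -((m + 1 : ℕ) : ℤ) + 1 = -(m : ℤ) by lia]
    exact hge

end

section

variable [HasLimitsOfShape (Discrete ℕ) B]

/-- A homotopy limit of the truncations, with the comparison map. -/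
theorem exists_holim (Y : DerivedCategory B) :
    ∃ (c : Fan (tau Y)) (_ : IsLimit c) (J : DerivedCategory B) (g : J ⟶ c.pt) (d : c.pt ⟶ c.pt)
      (δ : c.pt ⟶ J⟦(1 : ℤ)⟧) (l : Y ⟶ J),
      Triangle.mk g d δ ∈ distTriang (DerivedCategory B) ∧
      (∀ m, d ≫ c.proj m = c.proj m - c.proj (m + 1) ≫ trans Y m) ∧
      ∀ m, l ≫ g ≫ c.proj m = proj Y m := by
  haveI : HasLimitsOfShape (Discrete ℕ) (DerivedCategory B) := HProd.hasLimitsOfShape_derivedCategory
  let d : ∏ᶜ tau Y ⟶ ∏ᶜ tau Y :=
    Pi.lift fun m => Pi.π (tau Y) m - Pi.π (tau Y) (m + 1) ≫ trans Y m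
  obtain ⟨J, g, δ, hT⟩ := distinguished_cocone_triangle₁ d
  obtain ⟨l, hl⟩ := Triangle.coyoneda_exact₂ _ hT (Pi.lift (proj Y)) (by
    change Pi.lift (proj Y) ≫ d = 0
    refine Pi.hom_ext _ _ fun m => ?_
    rw [zero_comp]
    rw [Category.assoc, show d ≫ Pi.π (tau Y) m = _ from Pi.lift_π _ m]
    rw [Preadditive.comp_sub, Pi.lift_π, Pi.lift_π_assoc, proj_trans, sub_self])
  refine ⟨Fan.mk _ (Pi.π (tau Y)), productIsProduct _, J, g, d, δ, l, hT, fun m => Pi.lift_π _ m, fun m => ?_⟩
  rw [← Category.assoc]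
  exact (congrArg (fun φ => φ ≫ Pi.π (tau Y) m) hl.symm).trans (Pi.lift_π _ m)

variable (T : B ⥤ AddCommGrpCat.{u'}) [T.Additive] [PreservesFiniteLimits T]
  [PreservesLimitsOfShape (Discrete ℕ) T]

/-- The homotopy limit has the derived functors of a late truncation. -/
theorem bijective_RH_proj {N : ℤ} (hT : Van T P N) {Y : DerivedCategory B} (hY : HasP P Y)
    {c : Fan (tau Y)} (hc : IsLimit c) {J : DerivedCategory B} {g : J ⟶ c.pt} {d : c.pt ⟶ c.pt}
    {δ : c.pt ⟶ J⟦(1 : ℤ)⟧} (htri : Triangle.mk g d δ ∈ distTriang (DerivedCategory B))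
    (hd : ∀ m, d ≫ c.proj m = c.proj m - c.proj (m + 1) ≫ trans Y m)
    (m : ℕ) (n : ℤ) (hm : N - m ≤ n - 1) :
    Function.Bijective ((RH T n).map (g ≫ c.proj m)) := by
  have hiso : ∀ k, k ≤ n → N - m ≤ k → ∀ j, m ≤ j → IsIso ((RH T k).map (trans Y j)) :=
    fun k _ hk j hj => isIso_RH_trans T hT hY j k (by lia)
  have hdx : ∀ (k : ℤ) (x : (RH T k).obj c.pt) (j : ℕ),
      (RH T k).map (c.proj j) ((RH T k).map d x) = (RH T k).map (c.proj j) x -
        (RH T k).map (trans Y j) ((RH T k).map (c.proj (j + 1)) x) := fun k x j => by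
    rw [← ConcreteCategory.comp_apply, ← Functor.map_comp, hd, Functor.map_sub, Functor.map_comp]
    rfl
  have hgd : ∀ x, (RH T n).map d ((RH T n).map g x) = 0 := fun x => by
    have h0 : (Triangle.mk g d δ).mor₁ ≫ (Triangle.mk g d δ).mor₂ = 0 :=
      comp_distTriang_mor_zero₁₂ _ htri
    rw [← ConcreteCategory.comp_apply, ← Functor.map_comp, show g ≫ d = 0 from h0, Functor.map_zero]
    rfl
  constructor
  · refine (injective_iff_map_eq_zero _).2 fun x hx => ?_
    have h1 : (RH T n).map g x = 0 := by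
      refine (Product.bijective_RH T (tau Y) c hc n).1 ?_
      funext j
      refine (congrFun (AbProd.injective_eval_of_stationary
        (fun j => ((RH T n).map (trans Y j)).hom) m
        (fun j hj => by
          haveI := hiso n le_rfl (by lia) j hj
          exact (ConcreteCategory.bijective_of_isIso ((RH T n).map (trans Y j))).1)
        (fun j => (RH T n).map (c.proj j) ((RH T n).map g x)) (fun j => ?_) ?_) j).trans (map_zero _).symm
      · refine (sub_eq_zero.1 ?_).symm
        refine (hdx n _ j).symm.trans ?_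
        rw [hgd, map_zero]
      · rw [← ConcreteCategory.comp_apply, ← Functor.map_comp]
        exact hx
    obtain ⟨y, hy⟩ := (ShortComplex.ab_exact_iff _).1
      ((RH0 T).homologySequence_exact₁ _ htri (n - 1) n (by lia)) x h1
    obtain ⟨a, ha⟩ := AbProd.exists_one_sub_shift_eq
      (fun j => ((RH T (n - 1)).map (trans Y j)).hom) m
      (fun j hj => by
        haveI := hiso (n - 1) (by lia) hm j hj
        exact (ConcreteCategory.bijective_of_isIso ((RH T (n - 1)).map (trans Y j))).2)
      (fun j => (RH T (n - 1)).map (c.proj j) y)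
    obtain ⟨z, hz⟩ := (Product.bijective_RH T (tau Y) c hc (n - 1)).2 a
    have hzy : (RH T (n - 1)).map d z = y := by
      refine (Product.bijective_RH T (tau Y) c hc (n - 1)).1 (funext fun j => ?_)
      refine (hdx (n - 1) z j).trans (Eq.trans ?_ (ha j))
      rw [show (RH T (n - 1)).map (c.proj j) z = a j from congrFun hz j,
        show (RH T (n - 1)).map (c.proj (j + 1)) z = a (j + 1) from congrFun hz (j + 1)]
    rw [← hy, ← hzy]
    have h0 := (RH0 T).comp_homologySequenceδ _ htri (n - 1) n (by lia)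
    exact (ConcreteCategory.comp_apply _ _ _).symm.trans (ConcreteCategory.congr_hom h0 z)
  · intro y
    obtain ⟨a, ha, ha0⟩ := AbProd.exists_compatible (A := fun j => ↑((RH T n).obj (tau Y j)))
      (fun j => ((RH T n).map (trans Y j)).hom) m
      (fun j hj => by
        haveI := hiso n le_rfl (by lia) j hj
        exact (ConcreteCategory.bijective_of_isIso ((RH T n).map (trans Y j))).2) y
    obtain ⟨z, hz⟩ := (Product.bijective_RH T (tau Y) c hc n).2 a
    have hdz : (RH T n).map d z = 0 := by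
      refine (Product.bijective_RH T (tau Y) c hc n).1 (funext fun j => ?_)
      refine (hdx n z j).trans (Eq.trans ?_ (map_zero _).symm)
      rw [show (RH T n).map (c.proj j) z = a j from congrFun hz j,
        show (RH T n).map (c.proj (j + 1)) z = a (j + 1) from congrFun hz (j + 1)]
      exact sub_eq_zero.2 (ha j).symm
    obtain ⟨x, hx⟩ := (ShortComplex.ab_exact_iff _).1
      ((RH0 T).homologySequence_exact₂ _ htri n) z hdz
    refine ⟨x, ?_⟩
    rw [Functor.map_comp, ConcreteCategory.comp_apply]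
    exact (congrArg ((RH T n).map (c.proj m)) hx).trans ((congrFun hz m).trans ha0)

end

/-- Derived functors of a detecting family detect vanishing of cohomology. -/
theorem isZero_homology_of_detects (h : Detects.{w, v, u, u', t} P) (Z : DerivedCategory B) (k : ℤ)
    (hZ : ∀ i, IsZero ((RH (h.Φ i) k).obj Z)) : IsZero ((homologyFunctor B k).obj Z) := by
  obtain ⟨I, hI, ⟨e⟩⟩ := exists_resFunctor_obj_iso Z
  have eZ : Q.obj I ≅ Z := (quotientCompQhIso B).symm.app I ≪≫ Qh.mapIso e ≪≫
    (haveI := HProd.isIso_counit Z; asIso ((resAdj B).counit.app Z))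
  refine IsZero.of_iso ?_ ((homologyFunctor B k).mapIso eZ.symm ≪≫
    (homologyFunctorFactors B k).app I)
  refine (HomologicalComplex.exactAt_iff_isZero_homology _ _).1 (h.detect _ fun i => ?_)
  refine (HomologicalComplex.exactAt_iff_isZero_homology
    (((h.Φ i).mapHomologicalComplex (.up ℤ)).obj I) k).2 ?_
  exact (hZ i).of_iso ((@asIso _ _ _ _ _ (isIso_cmp_of_isKInjective (h.Φ i) k I)) ≪≫
    (RH (h.Φ i) k).mapIso eZ)

theorem isIso_homologyMap_of_detects (h : Detects.{w, v, u, u', t} P) {U V : DerivedCategory B}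
    (f : U ⟶ V) (k : ℤ)
    (hf : ∀ i n, k - 1 ≤ n → n ≤ k + 1 → IsIso ((RH (h.Φ i) n).map f)) :
    IsIso ((homologyFunctor B k).map f) := by
  obtain ⟨Z, g, δ, hT⟩ := distinguished_cocone_triangle f
  have hz : ∀ n, k - 1 ≤ n → n ≤ k → ∀ i, IsZero ((RH (h.Φ i) n).obj Z) := fun n hn1 hn2 i => by
    haveI := hf i n hn1 (by lia)
    haveI := hf i (n + 1) (by lia) (by lia)
    refine ((RH0 (h.Φ i)).homologySequence_exact₃ _ hT n (n + 1) rfl).isZero_X₂ ?_ ?_
    · have h0 := (congrArg (RH (h.Φ i) n).map (comp_distTriang_mor_zero₁₂ _ hT)).trans (Functor.map_zero _ _ _)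
      rw [Functor.map_comp] at h0
      exact (cancel_epi ((RH (h.Φ i) n).map f)).1 (h0.trans comp_zero.symm)
    · exact (cancel_mono ((RH (h.Φ i) (n + 1)).map f)).1
        (((RH0 (h.Φ i)).homologySequenceδ_comp _ hT n (n + 1) rfl).trans zero_comp.symm)
  have z1 := isZero_homology_of_detects h Z (k - 1) (hz (k - 1) le_rfl (by lia))
  have z0 := isZero_homology_of_detects h Z k (hz k (by lia) le_rfl)
  haveI : Mono ((homologyFunctor B k).map f) :=
    (HomologySequence.mono_homologyMap_mor₁_iff _ hT (k - 1) k (by lia)).2 (z1.eq_of_src _ _)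
  haveI : Epi ((homologyFunctor B k).map f) :=
    (HomologySequence.epi_homologyMap_mor₁_iff _ hT k).2 (z0.eq_of_tgt _ _)
  exact isIso_of_mono_of_epi _

variable [HasLimitsOfShape (Discrete ℕ) B]

/-- **`R^n T` only depends on a truncation.** -/
theorem isIso_RH_truncGEπ (h : Detects.{w, v, u, u', t} P) (T : B ⥤ AddCommGrpCat.{u'}) [T.Additive]
    [PreservesFiniteLimits T] [PreservesLimitsOfShape (Discrete ℕ) T] {N : ℤ} (hT : Van T P N)
    {Y : DerivedCategory B} (hY : HasP P Y) (m : ℕ) (n : ℤ) (hm : N - m ≤ n - 1) :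
    IsIso ((RH T n).map (proj Y m)) := by
  obtain ⟨c, hc, J, g, d, δ, l, htri, hd, hl⟩ := exists_holim Y
  haveI : IsIso l := by
    rw [DerivedCategory.isIso_iff]
    intro k
    let j : ℕ := (3 - k).toNat
    haveI : IsIso ((homologyFunctor B k).map (g ≫ c.proj j)) :=
      isIso_homologyMap_of_detects h _ k fun i n hn _ => by
        rw [ConcreteCategory.isIso_iff_bijective]
        exact bijective_RH_proj (h.Φ i) (h.van i) hY hc htri hd j n (by lia)
    haveI := isIso_homologyMap_truncGEπ Y (-(j : ℤ)) k (by lia)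
    haveI : IsIso ((homologyFunctor B k).map l ≫ (homologyFunctor B k).map (g ≫ c.proj j)) := by
      rw [← Functor.map_comp, hl]
      infer_instance
    exact IsIso.of_isIso_comp_right _ ((homologyFunctor B k).map (g ≫ c.proj j))
  rw [← hl m, Functor.map_comp]
  haveI : IsIso ((RH T n).map (g ≫ c.proj m)) := by
    rw [ConcreteCategory.isIso_iff_bijective]
    exact bijective_RH_proj T hT hY hc htri hd m n hm
  infer_instance

/-- **Finite cohomological dimension for unbounded objects.** -/
theorem isZero_RH (h : Detects.{w, v, u, u', t} P) (T : B ⥤ AddCommGrpCat.{u'}) [T.Additive]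
    [PreservesFiniteLimits T] [PreservesLimitsOfShape (Discrete ℕ) T] {N : ℤ} (hT : Van T P N)
    (Y : DerivedCategory B) (hY : HasP P Y) (b : ℤ) [Y.IsLE b] (n : ℤ) (hn : b + N ≤ n) :
    IsZero ((RH T n).obj Y) := by
  let m : ℕ := (N - n + 1).toNat
  haveI := isIso_RH_truncGEπ h T hT hY m n (by lia)
  haveI : (tau Y m).IsGE (-(m : ℤ)) := (inferInstance : TStructure.t.IsGE (tau Y m) (-(m : ℤ)))
  haveI : (tau Y m).IsLE b := isLE_truncGE Y _ b
  exact (isZero_RH_of_bounded hT (tau Y m) (hasP_truncGE hY _) (-(m : ℤ)) b n hn).of_iso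
    (asIso ((RH T n).map (proj Y m)))

end Groth.Agent.Lib.WayOut.Holim
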