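import Mathlib.Algebra.Homology.ShortComplex.Ab
import Mathlib.Algebra.Category.Grp.Limits
import Mathlib.CategoryTheory.Limits.Shapes.ConcreteCategory

/-!
# Homology in abelian groups commutes with products, elementwise
-/

set_option autoImplicit false

universe t u

open CategoryTheory Limits

namespace Groth.Agent.Lib.WayOut.AbProd

variable {ι : Type t} {S : ShortComplex AddCommGrpCat.{u}} {R : ι → ShortComplex AddCommGrpCat.{u}}
  (φ : ∀ j, S ⟶ R j)

theorem cycles_ext {x y : S.cycles} (h : S.iCycles x = S.iCycles y) : x = y :=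
  (AddCommGrpCat.mono_iff_injective S.iCycles).1 inferInstance h

theorem homologyπ_eq_zero_iff (x : S.cycles) :
    S.homologyπ x = 0 ↔ ∃ w, S.toCycles w = x := by
  refine ⟨fun h => ?_, ?_⟩
  · have he : (ShortComplex.mk _ _ S.toCycles_comp_homologyπ).Exact :=
      ShortComplex.exact_of_g_is_cokernel _ S.homologyIsCokernel
    exact (ShortComplex.ab_exact_iff _).1 he x h
  · rintro ⟨w, rfl⟩
    rw [← ConcreteCategory.comp_apply, S.toCycles_comp_homologyπ]
    rfl

/-- If the components are jointly bijective on the terms, so they are on homology. -/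
theorem bijective_homologyMap (h₁ : Function.Surjective fun x j => (φ j).τ₁ x)
    (h₂ : Function.Bijective fun x j => (φ j).τ₂ x)
    (h₃ : Function.Injective fun x j => (φ j).τ₃ x) :
    Function.Bijective fun x j => ShortComplex.homologyMap (φ j) x := by
  have hπ : ∀ j (x : S.cycles), ShortComplex.homologyMap (φ j) (S.homologyπ x) =
      (R j).homologyπ (ShortComplex.cyclesMap (φ j) x) := fun j x => by
    rw [← ConcreteCategory.comp_apply, ShortComplex.homologyπ_naturality]
    rfl
  have hi : ∀ j (x : S.cycles), (R j).iCycles (ShortComplex.cyclesMap (φ j) x) =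
      (φ j).τ₂ (S.iCycles x) := fun j x => by
    rw [← ConcreteCategory.comp_apply, ShortComplex.cyclesMap_i]
    rfl
  constructor
  · suffices ∀ x, (∀ j, ShortComplex.homologyMap (φ j) x = 0) → x = 0 by
      intro x y h
      rw [← sub_eq_zero]
      exact this _ fun j => by rw [map_sub, sub_eq_zero]; exact congrFun h j
    intro x hx
    obtain ⟨c, rfl⟩ := (AddCommGrpCat.epi_iff_surjective S.homologyπ).1 inferInstance x
    choose w hw using fun j => (homologyπ_eq_zero_iff _).1 ((hπ j c).symm.trans (hx j))
    obtain ⟨v, hv⟩ := h₁ w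
    refine (homologyπ_eq_zero_iff c).2 ⟨v, cycles_ext (h₂.1 ?_)⟩
    funext j
    change (φ j).τ₂ (S.iCycles (S.toCycles v)) = (φ j).τ₂ (S.iCycles c)
    rw [← hi j c, ← hw j, show w j = (φ j).τ₁ v from (congrFun hv j).symm]
    simp only [← ConcreteCategory.comp_apply, Category.assoc, ShortComplex.toCycles_i, (φ j).comm₁₂]
  · intro y
    choose c hc using fun j => (AddCommGrpCat.epi_iff_surjective (R j).homologyπ).1 inferInstance (y j)
    obtain ⟨v, hv⟩ := h₂.2 fun j => (R j).iCycles (c j)
    have hv0 : S.g v = 0 := h₃ (funext fun j => by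
      change (φ j).τ₃ (S.g v) = (φ j).τ₃ 0
      rw [map_zero, ← ConcreteCategory.comp_apply, ← (φ j).comm₂₃, ConcreteCategory.comp_apply,
        show (φ j).τ₂ v = (R j).iCycles (c j) from congrFun hv j, ← ConcreteCategory.comp_apply,
        ShortComplex.iCycles_g]
      rfl)
    refine ⟨S.homologyπ (S.abCyclesIso.inv ⟨v, hv0⟩), funext fun j => ?_⟩
    refine (hπ j _).trans ((congrArg (R j).homologyπ ?_).trans (hc j))
    refine cycles_ext ((hi j _).trans ?_)
    rw [S.abCyclesIso_inv_apply_iCycles]
    exact congrFun hv j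

/-- In a countable inverse system which is eventually stationary the map `(a_m) ↦ (a_m - t a_{m+1})`
is surjective, and its kernel is detected by any late coordinate. -/
theorem exists_one_sub_shift_eq {A : ℕ → Type u} [∀ m, AddCommGroup (A m)]
    (t : ∀ m, A (m + 1) →+ A m) (m₀ : ℕ) (ht : ∀ m, m₀ ≤ m → Function.Surjective (t m))
    (b : ∀ m, A m) : ∃ a : ∀ m, A m, ∀ m, a m - t m (a (m + 1)) = b m := by
  induction m₀ generalizing A with
  | zero =>
    choose s hs using fun m => ht m (Nat.zero_le m)
    exact ⟨fun m => Nat.rec (motive := fun m => A m) 0 (fun m a => s m (a - b m)) m,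
      fun m => by rw [hs]; exact sub_sub_cancel _ _⟩
  | succ k ih =>
    obtain ⟨a, ha⟩ := ih (A := fun m => A (m + 1)) (fun m => t (m + 1))
      (fun m hm => ht (m + 1) (by lia)) (fun m => b (m + 1))
    exact ⟨fun m => Nat.rec (motive := fun m => A m) (b 0 + t 0 (a 0)) (fun m _ => a m) m, fun m => by
      cases m with
      | zero => exact add_sub_cancel_right _ _
      | succ m => exact ha m⟩

theorem injective_eval_of_stationary {A : ℕ → Type u} [∀ m, AddCommGroup (A m)]
    (t : ∀ m, A (m + 1) →+ A m) (m₀ : ℕ) (ht : ∀ m, m₀ ≤ m → Function.Injective (t m))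
    (a : ∀ m, A m) (ha : ∀ m, t m (a (m + 1)) = a m) (h : a m₀ = 0) : a = 0 := by
  have hd : ∀ k, a (m₀ + k) = 0 := fun k => by
    induction k with
    | zero => exact h
    | succ k ih => exact ht _ (Nat.le_add_right _ _) ((ha _).trans (ih.trans (map_zero _).symm))
  have hu : ∀ k m, m + k = m₀ → a m = 0 := fun k => by
    induction k with
    | zero => rintro m rfl; exact h
    | succ k ih => intro m hm; rw [← ha m, ih (m + 1) (by lia), map_zero]
  funext m
  rcases le_total m₀ m with hm | hm
  · obtain ⟨k, rfl⟩ := Nat.exists_eq_add_of_le hm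
    exact hd k
  · exact hu (m₀ - m) m (by lia)

theorem exists_compatible {A : ℕ → Type u} [∀ m, AddCommGroup (A m)]
    (t : ∀ m, A (m + 1) →+ A m) (m₀ : ℕ) (ht : ∀ m, m₀ ≤ m → Function.Surjective (t m))
    (y : A m₀) : ∃ a : ∀ m, A m, (∀ m, t m (a (m + 1)) = a m) ∧ a m₀ = y := by
  induction m₀ generalizing A with
  | zero =>
    choose s hs using fun m => ht m (Nat.zero_le m)
    exact ⟨fun m => Nat.rec (motive := fun m => A m) y (fun m a => s m a) m,
      fun m => hs m _, rfl⟩
  | succ k ih =>
    obtain ⟨a, ha, ha0⟩ := ih (A := fun m => A (m + 1)) (fun m => t (m + 1))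
      (fun m hm => ht (m + 1) (by lia)) y
    exact ⟨fun m => Nat.rec (motive := fun m => A m) (t 0 (a 0)) (fun m _ => a m) m,
      fun m => by
        cases m with
        | zero => rfl
        | succ m => exact ha m, ha0⟩

end Groth.Agent.Lib.WayOut.AbProd
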