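import Groth.Agent.Lib.WayOut.Holim
import Mathlib.Algebra.Homology.Embedding.StupidTrunc
import Mathlib.Algebra.Homology.Embedding.CochainComplex
import Mathlib.Algebra.Homology.DerivedCategory.ShortExact

/-!
# Unbounded complexes of acyclic objects compute derived functors of finite cohomological dimension
-/

set_option autoImplicit false
set_option linter.unusedSectionVars false
set_option linter.style.haveILetI false

universe w v u v' u' t

open CategoryTheory Limits Pretriangulated HomologicalComplex

namespace Groth.Agent.Lib.WayOut.AcyclicCx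

open Groth.Agent.Lib.SpecSeq.RightHom Groth.Agent.Lib.SpecSeq.AcyclicComplex
open Groth.Agent.Lib.DerivedOX.RightDerived Bounded Holim

section Stupid

variable {B : Type u} [Category.{v} B] [Abelian B] (K : CochainComplex B ℤ) (m : ℤ)

/-- The stupid truncation `σ≥m K`. -/
noncomputable abbrev stupidGE : CochainComplex B ℤ :=
  K.stupidTrunc (ComplexShape.embeddingUpIntGE m)

instance : CochainComplex.IsStrictlyGE (stupidGE K m) m :=
  inferInstanceAs (IsStrictlySupported (K.stupidTrunc (ComplexShape.embeddingUpIntGE m))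
    (ComplexShape.embeddingUpIntGE m))

theorem embGE_f {j : ℤ} (hj : m ≤ j) :
    (ComplexShape.embeddingUpIntGE m).f (j - m).toNat = j := by
  simp only [ComplexShape.embeddingUpIntGE_f]; lia

/-- The inclusion of the stupid truncation in degree `j`. -/
noncomputable def inclF (j : ℤ) : (stupidGE K m).X j ⟶ K.X j :=
  if hj : m ≤ j then (K.stupidTruncXIso (ComplexShape.embeddingUpIntGE m) (embGE_f m hj)).hom else 0

theorem isIso_inclF {j : ℤ} (hj : m ≤ j) : IsIso (inclF K m j) := by
  rw [inclF, dif_pos hj]
  infer_instance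

theorem isZero_stupidGE {j : ℤ} (hj : j < m) : IsZero ((stupidGE K m).X j) :=
  CochainComplex.isZero_of_isStrictlyGE _ m j hj

/-- The inclusion `σ≥m K ⟶ K`. -/
noncomputable def incl : stupidGE K m ⟶ K where
  f := inclF K m
  comm' i j hij := by
    obtain rfl : i + 1 = j := hij
    by_cases hi : m ≤ i
    · rw [inclF, dif_pos hi, inclF, dif_pos (by lia)]
      change (stupidTruncXIso K (ComplexShape.embeddingUpIntGE m) (embGE_f m hi)).hom ≫ K.d i (i + 1) =
        ((K.restriction (ComplexShape.embeddingUpIntGE m)).extend (ComplexShape.embeddingUpIntGE m)).d i (i + 1) ≫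
          (stupidTruncXIso K (ComplexShape.embeddingUpIntGE m) (embGE_f m (show m ≤ i + 1 by lia))).hom
      rw [
        (K.restriction (ComplexShape.embeddingUpIntGE m)).extend_d_eq (ComplexShape.embeddingUpIntGE m)
          (embGE_f m hi) (embGE_f m (show m ≤ i + 1 by lia)),
        K.restriction_d_eq (ComplexShape.embeddingUpIntGE m) (embGE_f m hi) (embGE_f m (show m ≤ i + 1 by lia))]
      rw [show (stupidTruncXIso K (ComplexShape.embeddingUpIntGE m) (embGE_f m (show m ≤ i + 1 by lia))).hom =
          ((K.restriction (ComplexShape.embeddingUpIntGE m)).extendXIso (ComplexShape.embeddingUpIntGE m)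
            (embGE_f m (show m ≤ i + 1 by lia))).hom ≫
          (K.restrictionXIso (ComplexShape.embeddingUpIntGE m) (embGE_f m (show m ≤ i + 1 by lia))).hom from rfl,
        show (stupidTruncXIso K (ComplexShape.embeddingUpIntGE m) (embGE_f m hi)).hom =
          ((K.restriction (ComplexShape.embeddingUpIntGE m)).extendXIso (ComplexShape.embeddingUpIntGE m)
            (embGE_f m hi)).hom ≫
          (K.restrictionXIso (ComplexShape.embeddingUpIntGE m) (embGE_f m hi)).hom from rfl]
      simp only [Category.assoc, Iso.inv_hom_id_assoc, Iso.inv_hom_id, Category.comp_id]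
      exact Category.assoc _ _ _
    · exact (isZero_stupidGE K m (by lia)).eq_of_src _ _

instance : Mono (incl K m) := by
  have : ∀ j, Mono ((incl K m).f j) := fun j => by
    by_cases hj : m ≤ j
    · haveI := isIso_inclF K m hj
      exact inferInstanceAs (Mono (inclF K m j))
    · exact ⟨fun a b _ => (isZero_stupidGE K m (by lia)).eq_of_tgt _ _⟩
  exact mono_of_mono_f _ this

/-- `0 → σ≥m K → K → K/σ≥m K → 0`. -/
noncomputable abbrev stupidSeq : ShortComplex (CochainComplex B ℤ) :=
  ShortComplex.mk (incl K m) (cokernel.π (incl K m)) (cokernel.condition _)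

theorem stupidSeq_shortExact : (stupidSeq K m).ShortExact :=
  { exact := (stupidSeq K m).exact_of_g_is_cokernel (cokernelIsCokernel _) }

theorem isZero_quot {j : ℤ} (hj : m ≤ j) : IsZero ((cokernel (incl K m)).X j) :=
  (((stupidSeq_shortExact K m).map_of_exact (eval B (ComplexShape.up ℤ) j)).isIso_f_iff).1
    (isIso_inclF K m hj)

theorem quot_iso {j : ℤ} (hj : j < m) : Nonempty (K.X j ≅ (cokernel (incl K m)).X j) :=
  haveI : IsIso ((cokernel.π (incl K m)).f j) :=
    (((stupidSeq_shortExact K m).map_of_exact (eval B (ComplexShape.up ℤ) j)).isIso_g_iff).2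
      (isZero_stupidGE K m hj)
  ⟨asIso ((cokernel.π (incl K m)).f j)⟩

/-- Above `m` the inclusion gives an isomorphism on homology, also after applying a functor. -/
theorem isIso_homologyMap_incl {C : Type u'} [Category.{v'} C] [Abelian C] (T : B ⥤ C) [T.Additive]
    {n : ℤ} (hn : m < n) :
    IsIso (homologyMap ((T.mapHomologicalComplex (.up ℤ)).map (incl K m)) n) := by
  let φ := (T.mapHomologicalComplex (.up ℤ)).map (incl K m)
  have hf : ∀ j, m ≤ j → IsIso (φ.f j) := fun j hj =>
    haveI := isIso_inclF K m hj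
    inferInstanceAs (IsIso (T.map (inclF K m j)))
  haveI : IsIso ((shortComplexFunctor' C (.up ℤ) (n - 1) n (n + 1)).map φ).τ₁ := hf _ (by lia)
  haveI : IsIso ((shortComplexFunctor' C (.up ℤ) (n - 1) n (n + 1)).map φ).τ₂ := hf _ (by lia)
  haveI : IsIso ((shortComplexFunctor' C (.up ℤ) (n - 1) n (n + 1)).map φ).τ₃ := hf _ (by lia)
  have : QuasiIsoAt φ n := by
    rw [quasiIsoAt_iff' φ (n - 1) n (n + 1) (by simp) (by simp)]
    exact ShortComplex.quasiIso_of_epi_of_isIso_of_mono _
  exact (quasiIsoAt_iff_isIso_homologyMap φ n).1 this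

end Stupid

variable {B : Type u} [Category.{v} B] [Abelian B] [HasDerivedCategory.{w} B]
  [(DerivedCategory.Qh (C := B)).IsLeftAdjoint] [EnoughInjectives B]

/-- Bounded below complexes of acyclic objects. -/
theorem isIso_cmp_of_acyclic_of_GE {C : Type u'} [Category.{v'} C] [Abelian C] (T : B ⥤ C) [T.Additive]
    [PreservesFiniteLimits T] (K : CochainComplex B ℤ) (a : ℤ) [K.IsStrictlyGE a]
    (hK : ∀ k, Acyc T (K.X k)) (n : ℤ) : IsIso ((cmp T n).app K) := by
  obtain ⟨L, i, _, hL, _⟩ := CochainComplex.Plus.modelCategoryQuillen.exists_quasiIso_injective K a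
  have := isKInjective_of_isStrictlyGE L a hL
  have hN := CochainComplex.isStrictlyGE_mappingCone i a a (a - 1)
  have hacyc := (quasiIso_iff_acyclic_mappingCone i).1 inferInstance
  have hT : QuasiIso ((T.mapHomologicalComplex (.up ℤ)).map i) := by
    refine (quasiIso_iff_acyclic_mappingCone _).2 fun k => ?_
    refine HomologicalComplex.ExactAt.of_iso ?_ (CochainComplex.mappingCone.mapHomologicalComplexIso i T)
    exact exactAt_map_of_acyclic T _ (a - 1) hacyc (fun j => acyc_of_iso T
      (HomologicalComplex.homotopyCofiber.XIsoBiprod i j (j + 1) rfl).symm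
      (acyc_biprod T (hK (j + 1)) (have := hL j; acyc_injective T (L.X j)))) k
  exact isIso_cmp_of_quasiIso T n i

variable {P : ObjectProperty B} [P.IsClosedUnderIsomorphisms] [P.ContainsZero]
  [HasLimitsOfShape (Discrete ℕ) B]

/-- **Complexes of acyclic objects in `P` compute `RT`.** -/
theorem isIso_cmp (h : Detects.{w, v, u, u', t} P) (T : B ⥤ AddCommGrpCat.{u'}) [T.Additive]
    [PreservesFiniteLimits T] [PreservesLimitsOfShape (Discrete ℕ) T] {N : ℤ} (hT : Van T P N)
    (hPh : ∀ L : CochainComplex B ℤ, (∀ j, P (L.X j)) → ∀ i, P (L.homology i))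
    (K : CochainComplex B ℤ) (hP : ∀ j, P (K.X j)) (hK : ∀ k, Acyc T (K.X k)) (n : ℤ) :
    IsIso ((cmp T n).app K) := by
  obtain ⟨m, hm1, hm2⟩ : ∃ m : ℤ, m ≤ n - 1 ∧ m - 1 + N ≤ n - 1 :=
    ⟨min (n - 1) (n - N), min_le_left _ _, by have := min_le_right (n - 1) (n - N); lia⟩
  haveI := isIso_cmp_of_acyclic_of_GE T (stupidGE K m) m (fun k => by
    by_cases hk : m ≤ k
    · haveI := isIso_inclF K m hk
      exact acyc_of_iso T (asIso (inclF K m k)).symm (hK k)
    · exact acyc_of_isZero T (isZero_stupidGE K m (by lia))) n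
  have hC : ∀ j, P ((cokernel (incl K m)).X j) := fun j => by
    by_cases hj : m ≤ j
    · exact P_of_isZero (isZero_quot K m hj)
    · exact P.prop_of_iso (quot_iso K m (by lia)).some (hP j)
  have hHP : HasP P (DerivedCategory.Q.obj (cokernel (incl K m))) := fun i =>
    P.prop_of_iso ((DerivedCategory.homologyFunctorFactors B i).app _).symm (hPh _ hC i)
  haveI : (cokernel (incl K m)).IsStrictlyLE (m - 1) := by
    rw [CochainComplex.isStrictlyLE_iff]
    exact fun j hj => isZero_quot K m (by lia)
  have hz : ∀ k, n - 1 ≤ k → IsZero ((RH T k).obj (DerivedCategory.Q.obj (cokernel (incl K m)))) :=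
    fun k hk => isZero_RH h T hT _ hHP (m - 1) k (by lia)
  have htri := DerivedCategory.triangleOfSES_distinguished (stupidSeq_shortExact K m)
  haveI : IsIso ((RH T n).map (DerivedCategory.Q.map (incl K m))) := by
    haveI : Mono ((RH T n).map (DerivedCategory.Q.map (incl K m))) :=
      ((RH0 T).homologySequence_exact₁ _ htri (n - 1) n (by lia)).mono_g
        ((hz (n - 1) le_rfl).eq_of_src _ _)
    haveI : Epi ((RH T n).map (DerivedCategory.Q.map (incl K m))) :=
      ((RH0 T).homologySequence_exact₂ _ htri n).epi_f ((hz n (by lia)).eq_of_tgt _ _)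
    exact isIso_of_mono_of_epi _
  have e := (cmp T n).naturality (incl K m)
  haveI h1 : IsIso ((T.mapHomologicalComplex (.up ℤ) ⋙ homologyFunctor _ (.up ℤ) n).map (incl K m)) :=
    isIso_homologyMap_incl K m T (by lia)
  haveI h2 : IsIso ((DerivedCategory.Q ⋙ RH T n).map (incl K m)) :=
    inferInstanceAs (IsIso ((RH T n).map (DerivedCategory.Q.map (incl K m))))
  haveI : IsIso ((T.mapHomologicalComplex (.up ℤ) ⋙ homologyFunctor _ (.up ℤ) n).map (incl K m) ≫
      (cmp T n).app K) := by
    rw [e]
    infer_instance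
  exact IsIso.of_isIso_comp_left
    ((T.mapHomologicalComplex (.up ℤ) ⋙ homologyFunctor _ (.up ℤ) n).map (incl K m)) _

end Groth.Agent.Lib.WayOut.AcyclicCx
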