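import Groth.Agent.Lib.WayOut.AbProd
import Groth.Agent.Lib.WayOut.Bounded
import Groth.Agent.Lib.DerCat.HProd

/-!
# Derived functors with values in abelian groups commute with countable products
-/

set_option autoImplicit false
set_option linter.unusedSectionVars false
set_option linter.style.haveILetI false

universe w v u u'

open CategoryTheory Limits

namespace Groth.Agent.Lib.WayOut.Product

open Groth.Agent.Lib.SpecSeq.RightHom Groth.Agent.Lib.DerivedOX.RightDerived
open Groth.Agent.Lib.DerCat

section Generic

variable {B : Type u} [Category.{v} B] [Abelian B] {J : Type}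
  (T : B ⥤ AddCommGrpCat.{u'}) [T.Additive]

/-- Applying a product preserving functor to the terms of a product of complexes. -/
theorem bijective_term [HasLimitsOfShape (Discrete J) B] [PreservesLimitsOfShape (Discrete J) T]
    (K : J → CochainComplex B ℤ) (k : ℤ) :
    Function.Bijective fun (x : T.obj ((∏ᶜ K).X k)) j => T.map ((Pi.π K j).f k) x := by
  haveI : HasProduct fun j => T.obj ((K j).X k) :=
    ⟨⟨⟨_, isLimitFanMkObjOfIsLimit (HomologicalComplex.eval B (ComplexShape.up ℤ) k ⋙ T) K
      (fun j => Pi.π K j) (productIsProduct K)⟩⟩⟩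
  let h := isLimitFanMkObjOfIsLimit (HomologicalComplex.eval B (ComplexShape.up ℤ) k ⋙ T) K
      (fun j => Pi.π K j) (productIsProduct K)
  let e := h.conePointUniqueUpToIso (productIsProduct fun j => T.obj ((K j).X k))
  have he : ∀ j, e.hom ≫ Pi.π (fun j => T.obj ((K j).X k)) j = T.map ((Pi.π K j).f k) := fun j =>
    IsLimit.conePointUniqueUpToIso_hom_comp h _ ⟨j⟩
  have hb := (Concrete.productEquiv fun j => T.obj ((K j).X k)).bijective.comp
    (ConcreteCategory.bijective_of_isIso e.hom)
  refine (congrArg Function.Bijective (funext fun x => ?_)).mp hb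
  funext j
  rw [Function.comp_apply, Concrete.productEquiv_apply_apply, ← ConcreteCategory.comp_apply, he]
  rfl

/-- Homology of the image of a product of complexes is the product of the homologies. -/
theorem bijective_homology [HasLimitsOfShape (Discrete J) B] [PreservesLimitsOfShape (Discrete J) T]
    (K : J → CochainComplex B ℤ) (n : ℤ) :
    Function.Bijective fun x j =>
      HomologicalComplex.homologyMap ((T.mapHomologicalComplex (.up ℤ)).map (Pi.π K j)) n x :=
  AbProd.bijective_homologyMap
    (fun j => (HomologicalComplex.shortComplexFunctor AddCommGrpCat.{u'} (.up ℤ) n).map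
      ((T.mapHomologicalComplex (.up ℤ)).map (Pi.π K j)))
    (bijective_term T K _).2 (bijective_term T K _) (bijective_term T K _).1

end Generic

variable {B : Type u} [Category.{v} B] [Abelian B] [HasDerivedCategory.{w} B]
  [(DerivedCategory.Qh (C := B)).IsLeftAdjoint] {J : Type}
  (T : B ⥤ AddCommGrpCat.{u'}) [T.Additive]

/-- The derived functors turn products in `D(B)` into products. -/
theorem bijective_RH [HasLimitsOfShape (Discrete J) B] [PreservesLimitsOfShape (Discrete J) T]
    (Y : J → DerivedCategory B) (c : Fan Y) (hc : IsLimit c) (n : ℤ) :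
    Function.Bijective fun x j => (RH T n).map (c.proj j) x := by
  let K : J → CochainComplex B ℤ := fun j => ((resFunctor B).obj (Y j)).as
  let hres : IsLimit (Fan.mk ((resFunctor B).obj c.pt) fun j => (resFunctor B).map (c.proj j)) :=
    isLimitFanMkObjOfIsLimit (resFunctor B) Y c.proj (hc.ofIsoLimit (Fan.ext (Iso.refl _) (fun j => by simp)))
  let e := (HProd.isLimitFan K).conePointUniqueUpToIso hres
  have he : ∀ j, e.hom ≫ (resFunctor B).map (c.proj j) =
      (HomotopyCategory.quotient B (.up ℤ)).map (Pi.π K j) := fun j =>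
    IsLimit.conePointUniqueUpToIso_hom_comp (HProd.isLimitFan K) hres ⟨j⟩
  let H := T.mapHomotopyCategory (.up ℤ) ⋙ HomotopyCategory.homologyFunctor AddCommGrpCat.{u'} (.up ℤ) n
  let Φ := T.mapHomologicalComplex (.up ℤ) ⋙ HomologicalComplex.homologyFunctor AddCommGrpCat.{u'} (.up ℤ) n
  let α : HomotopyCategory.quotient B (.up ℤ) ⋙ H ≅ Φ :=
    (Functor.associator _ _ _).symm ≪≫
      Functor.isoWhiskerRight (T.mapHomotopyCategoryFactors (.up ℤ)) _ ≪≫ Functor.associator _ _ _ ≪≫
      Functor.isoWhiskerLeft _ (HomotopyCategory.homologyFunctorFactors _ (.up ℤ) n)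
  let E : Φ.obj (∏ᶜ K) ≅ (RH T n).obj c.pt :=
    (α.app _).symm ≪≫ H.mapIso e ≪≫ ((RHIso T n).app c.pt).symm
  let F : ∀ j, Φ.obj (K j) ≅ (RH T n).obj (Y j) := fun j =>
    (α.app (K j)).symm ≪≫ ((RHIso T n).app (Y j)).symm
  have hEF : ∀ j, E.hom ≫ (RH T n).map (c.proj j) = Φ.map (Pi.π K j) ≫ (F j).hom := fun j => by
    simp only [E, F, Iso.trans_hom, Iso.symm_hom, Iso.app_inv, Functor.mapIso_hom, Category.assoc]
    rw [← NatTrans.naturality (RHIso T n).inv]
    erw [← Functor.map_comp_assoc H, he]
    exact (α.inv.naturality_assoc (Pi.π K j) _).symm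
  have hb : Function.Bijective fun x j => (F j).hom (Φ.map (Pi.π K j) x) := by
    refine ⟨fun x y h => (bijective_homology T K n).1 (funext fun j =>
      (ConcreteCategory.bijective_of_isIso (F j).hom).1 (congrFun h j)), fun y => ?_⟩
    obtain ⟨x, hx⟩ := (bijective_homology T K n).2 fun j =>
      (ConcreteCategory.bijective_of_isIso (F j).hom).2 (y j) |>.choose
    exact ⟨x, funext fun j => (congrArg (F j).hom (congrFun hx j)).trans
      ((ConcreteCategory.bijective_of_isIso (F j).hom).2 (y j)).choose_spec⟩
  have h2 : (fun x j => (F j).hom (Φ.map (Pi.π K j) x)) =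
      (fun x j => (RH T n).map (c.proj j) x) ∘ E.hom := by
    funext x j
    exact (ConcreteCategory.congr_hom (hEF j) x).symm
  rw [h2] at hb
  exact (Function.Bijective.of_comp_iff _ (ConcreteCategory.bijective_of_isIso E.hom)).1 hb

end Groth.Agent.Lib.WayOut.Product
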